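import Groth.Agent.H28Mero.ZeroScheme
import Groth.Agent.H28Vert.IdealProd
import Groth.Agent.H22Alg.GenSection
import Groth.Agent.H29Mero.Affine
import Groth.Agent.H11Sym.InvertibleInverse
import Groth.Agent.H10Coh.TwistExact
import Groth.Agent.H11Tilde.Tensor
import Groth.Agent.H11Ample.UnitIso

/-!
# Invertible modules are differences of effective Cartier divisors avoiding a finite set
-/

set_option autoImplicit false
set_option backward.isDefEq.respectTransparency.types false

universe u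

open CategoryTheory CategoryTheory.Limits AlgebraicGeometry TopologicalSpace Opposite

namespace Groth.Agent.H11Div

variable {X : Scheme.{u}}

/-- A Noetherian scheme has finitely many weakly associated points. -/
theorem finite_weakAssPoints [IsNoetherian X] :
    {y : X | Curv2.IsWeakAssPoint (Coh.structureModule X) y}.Finite := by
  choose V hV hxV hle using fun x : X => exists_isAffineOpen_mem_and_subset (X := X) (x := x) (U := ⊤) trivial
  obtain ⟨t, ht⟩ := isCompact_univ.elim_finite_subcover (fun x => (V x : Set X)) (fun x => (V x).2)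
    fun x _ => Set.mem_iUnion.2 ⟨x, hxV x⟩
  refine Set.Finite.subset (Set.Finite.biUnion t.finite_toSet fun x _ => ?_) fun y hy => by
    obtain ⟨x, hx, hyx⟩ := Set.mem_iUnion₂.1 (ht (Set.mem_univ y))
    exact Set.mem_biUnion (t := fun x => {y : X | y ∈ V x ∧ Curv2.IsWeakAssPoint (Coh.structureModule X) y})
      hx ⟨hyx, hy⟩
  have : IsNoetherianRing Γ(X, V x) := IsLocallyNoetherian.component_noetherian ⟨V x, hV x⟩
  exact H29Mero.finite_weakAss (hV x)

/-- The value of a map to functions at a section, as a germ. -/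
noncomputable abbrev valGerm {M : X.Modules} (μ : M ⟶ Coh.structureModule X) (U : X.Opens) (y : X) (hy : y ∈ U)
    (m : Γ(M, U)) : X.presheaf.stalk y :=
  X.presheaf.germ U y hy (show Γ(X, U) from μ.app U m)

theorem valGerm_res {M : X.Modules} (μ : M ⟶ Coh.structureModule X) {U W : X.Opens} (h : W ≤ U) (y : X)
    (hy : y ∈ W) (m : Γ(M, U)) :
    valGerm μ W y hy (M.presheaf.map (homOfLE h).op m) = valGerm μ U y (h hy) m := by
  have e : (show Γ(X, W) from μ.app W (M.presheaf.map (homOfLE h).op m)) =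
      X.presheaf.map (homOfLE h).op (show Γ(X, U) from μ.app U m) := H11Tilde.app_map_apply μ h m
  rw [valGerm, e]
  exact X.presheaf.germ_res_apply _ _ _ _

theorem valGerm_smul {M : X.Modules} (μ : M ⟶ Coh.structureModule X) {U : X.Opens} (y : X)
    (hy : y ∈ U) (c : Γ(X, U)) (m : Γ(M, U)) :
    valGerm μ U y hy (c • m) = X.presheaf.germ U y hy c * valGerm μ U y hy m := by
  rw [valGerm, show (show Γ(X, U) from μ.app U (c • m)) = c * (show Γ(X, U) from μ.app U m) from
    Scheme.Modules.Hom.app_smul _ _ _, map_mul]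

/-- The ideal of values at a point. -/
noncomputable def valIdeal {M : X.Modules} (μ : M ⟶ Coh.structureModule X) (y : X) : Ideal (X.presheaf.stalk y) :=
  Ideal.span {z | ∃ (U : X.Opens) (hy : y ∈ U) (m : Γ(M, U)), valGerm μ U y hy m = z}

theorem valIdeal_eq_span {M : X.Modules} (μ : M ⟶ Coh.structureModule X) {U : X.Opens} {e : Γ(M, U)}
    (he : H11Tilde.IsGen M e) (y : X) (hy : y ∈ U) :
    valIdeal μ y = Ideal.span {valGerm μ U y hy e} := by
  refine le_antisymm (Ideal.span_le.2 ?_) (Ideal.span_mono (Set.singleton_subset_iff.2 ⟨U, hy, e, rfl⟩))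
  rintro _ ⟨U', hy', m, rfl⟩
  have hW : y ∈ U ⊓ U' := ⟨hy, hy'⟩
  obtain ⟨c, hc⟩ := H11Ample.exists_coeff (he.res (inf_le_left : U ⊓ U' ≤ U))
    (M.presheaf.map (homOfLE (inf_le_right : U ⊓ U' ≤ U')).op m)
  rw [← valGerm_res μ (inf_le_right : U ⊓ U' ≤ U') y hW m, hc, valGerm_smul, valGerm_res]
  exact Ideal.mem_span_singleton.2 ⟨_, mul_comm _ _⟩

/-- A map of an invertible module to functions, a unit at the weakly associated points, is an
effective Cartier ideal missing the points where it is a unit. -/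
theorem exists_effCartier_of_hom {M : X.Modules} (hM : PicF.IsInvertible M)
    (μ : M ⟶ Coh.structureModule X)
    (hass : ∀ y, Curv2.IsWeakAssPoint (Coh.structureModule X) y → valIdeal μ y = ⊤) :
    ∃ I : X.IdealSheafData, BlowUp.IsEffCartierIdeal I ∧ Nonempty (M ≅ ClSub.idealMod I) ∧
      ∀ y : X, valIdeal μ y = ⊤ → y ∉ I.support := by
  classical
  have hlp : H28Mero.IsLocPrincipal (valIdeal μ) := fun O x hx => by
    obtain ⟨U, e, hxU, he⟩ := H11Ample.exists_gen hM x
    obtain ⟨V, hV, hxV, hVle⟩ := exists_isAffineOpen_mem_and_subset (U := O ⊓ U) (x := x) ⟨hx, hxU⟩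
    exact ⟨V, hV, hxV, fun y hy => (hVle hy).1, μ.app V (M.presheaf.map (homOfLE fun y hy => (hVle hy).2).op e),
      fun y hy => valIdeal_eq_span μ (he.res _) y hy⟩
  let I := H28Mero.germIdealSheaf (valIdeal μ) hlp
  have hloc : ∀ x : X, ∃ (V : X.Opens) (hV : IsAffineOpen V) (e : Γ(M, V)), x ∈ V ∧ H11Tilde.IsGen M e ∧
      I.ideal ⟨V, hV⟩ = Ideal.span {(show Γ(X, V) from μ.app V e)} ∧
      (show Γ(X, V) from μ.app V e) ∈ nonZeroDivisors Γ(X, V) := by
    intro x
    obtain ⟨U, e₀, hxU, he₀⟩ := H11Ample.exists_gen hM x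
    obtain ⟨V, hV, hxV, hVU⟩ := exists_isAffineOpen_mem_and_subset (U := U) hxU
    have he := he₀.res (show V ≤ U from hVU)
    refine ⟨V, hV, _, hxV, he, ?_, H29Mero.mem_nzd_of_forall hV fun y hy hw => ?_⟩
    · exact H28Mero.germIdeal_eq_span hV _ fun y hy => valIdeal_eq_span μ he y hy
    · rw [← Ideal.span_singleton_eq_top]
      exact (valIdeal_eq_span μ he y hy).symm.trans (hass y hw)
  have hI : BlowUp.IsEffCartierIdeal I := fun x => by
    obtain ⟨V, hV, e, hxV, -, h1, h2⟩ := hloc x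
    exact ⟨⟨V, hV⟩, hxV, _, h2, h1⟩
  have w : μ ≫ ClSub.toSubscheme I = 0 := by
    refine Scheme.Modules.hom_ext _ _ fun W => ?_
    ext t
    refine H11Tilde.eq_of_locally _ _ fun x hx => ?_
    obtain ⟨U, hU, hxU, hUW⟩ := exists_isAffineOpen_mem_and_subset hx
    refine ⟨U, hUW, hxU, ?_⟩
    rw [← H11Tilde.app_map_apply, ← H11Tilde.app_map_apply]
    let m : Γ(M, U) := M.presheaf.map (homOfLE (show U ≤ W from hUW)).op t
    show (ClSub.toSubscheme I).app U (μ.app U m) = _
    exact ((H17.IdealPair.app_eq_zero_iff I hU _).2 (H28Mero.mem_germIdeal.2 fun y hy =>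
      Ideal.subset_span ⟨U, hy, m, rfl⟩)).trans rfl
  let φ : M ⟶ ClSub.idealMod I := kernel.lift (ClSub.toSubscheme I) μ w
  have : IsIso φ := by
    refine H11Tilde.isIso_of_gen φ fun x => ?_
    obtain ⟨V, hV, e, hxV, he, h1, -⟩ := hloc x
    refine ⟨V, e, hxV, he, H28Vert.isGen_idealSect hI hV ?_⟩
    rw [h1]
    refine congrArg (fun c => Ideal.span {c}) ?_
    show _ = (φ ≫ ClSub.idealModι I).app V e
    rw [show φ ≫ ClSub.idealModι I = μ from kernel.lift_ι _ _ _]
  refine ⟨I, hI, ⟨asIso φ⟩, fun y htop hy => ?_⟩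
  obtain ⟨V, hV, e, hyV, he, h1, -⟩ := hloc y
  have h2 := (I.coe_support_inter ⟨V, hV⟩).le ⟨hy, hyV⟩
  rw [h1, Scheme.zeroLocus_span, Scheme.zeroLocus_singleton] at h2
  refine h2.1 ((X.mem_basicOpen _ y hyV).2 ?_)
  rw [← Ideal.span_singleton_eq_top]
  exact (valIdeal_eq_span μ he y hyV).symm.trans htop

/-- A section generating at the weakly associated points cuts out an effective Cartier divisor with
ideal the inverse module. -/
theorem exists_effCartier_of_section {P Q : X.Modules} (hP : PicF.IsInvertible P)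
    (e : CohB1.tensorMod Q P ≅ Coh.structureModule X) (g : Γ(Q, ⊤))
    (hg : {y : X | Curv2.IsWeakAssPoint (Coh.structureModule X) y} ⊆ H11Ample.gen Q g) :
    ∃ I : X.IdealSheafData, BlowUp.IsEffCartierIdeal I ∧ Nonempty (P ≅ ClSub.idealMod I) ∧
      Disjoint (H11Ample.gen Q g : Set X) (I.support : Set X) := by
  let σ := H11Tilde.homOfGlobal Q g
  let μ := (H11Ample.tensorLeftUnitIso P).inv ≫ LimSh.tensorModMap σ P ≫ e.hom
  have h : ∀ y ∈ H11Ample.gen Q g, valIdeal μ y = ⊤ := fun y hy => by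
    obtain ⟨V, p, hyV, hp⟩ := H11Ample.exists_gen hP y
    let W := V ⊓ H11Ample.gen Q g
    have hW : y ∈ W := ⟨hyV, hy⟩
    let pW : Γ(P, W) := P.presheaf.map (homOfLE (inf_le_left : W ≤ V)).op p
    let one' : Γ(Coh.structureModule X, W) := H11Ample.one W
    have h1 : H11Tilde.IsGen (CohB1.tensorMod (Coh.structureModule X) P) (H11Ample.tm one' pW) :=
      H11Ample.isGen_tm (H11Ample.isGen_one W) (hp.res inf_le_left)
    let q : Γ(P, W) := (H11Ample.tensorLeftUnitIso P).hom.app W (H11Ample.tm one' pW)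
    have hq : H11Tilde.IsGen P q := H11Tilde.IsGen.map_iso (H11Ample.tensorLeftUnitIso P) h1
    have hσ : σ.app W one' = Q.presheaf.map (homOfLE (le_top : W ≤ ⊤)).op g := by
      rw [H11Tilde.homOfGlobal_app]
      exact one_smul _ _
    have h2 : H11Tilde.IsGen (CohB1.tensorMod Q P) (H11Ample.tm (σ.app W one') pW) := by
      rw [hσ]
      refine H11Ample.isGen_tm ?_ (hp.res inf_le_left)
      have := (H11Ample.isGen_gen (L := Q) g).res (inf_le_right : W ≤ H11Ample.gen Q g)
      rwa [H10Coh.mres_mres] at this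
    have h3 := H11Tilde.IsGen.map_iso e h2
    have hμq : μ.app W q = e.hom.app W (H11Ample.tm (σ.app W one') pW) := by
      show e.hom.app W ((LimSh.tensorModMap σ P).app W ((H11Ample.tensorLeftUnitIso P).inv.app W q)) = _
      rw [show (H11Ample.tensorLeftUnitIso P).inv.app W q = H11Ample.tm one' pW from
        congr($((H11Ample.tensorLeftUnitIso P).hom_inv_id).app W (H11Ample.tm one' pW)), H10Coh.Tw.map_tm]
    have h4 := valIdeal_eq_span μ hq y hW
    rw [h4, Ideal.span_singleton_eq_top, valGerm, hμq]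
    obtain ⟨c, hc⟩ := H11Ample.exists_coeff h3 (H11Ample.one W)
    have hc' : (1 : Γ(X, W)) = c * (show Γ(X, W) from e.hom.app W (H11Ample.tm (σ.app W one') pW)) := hc
    exact isUnit_of_mul_isUnit_right (x := X.presheaf.germ W y hW c) (by rw [← map_mul, ← hc', map_one]; exact isUnit_one)
  obtain ⟨I, hI, hiso, hsupp⟩ := exists_effCartier_of_hom hP μ fun y hy => h y (hg hy)
  exact ⟨I, hI, hiso, Set.disjoint_left.2 fun y hy => hsupp y (h y hy)⟩

/-- On a Noetherian scheme with an ample invertible module every invertible module is a difference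
of effective Cartier divisors avoiding a given finite set. -/
theorem exists_difference_effCartier [IsNoetherian X] {L N : X.Modules} (hL : CohB1.IsAmple L)
    (hN : PicF.IsInvertible N) {E : Set X} (hE : E.Finite) :
    ∃ D D' : X.IdealSheafData, BlowUp.IsEffCartierIdeal D ∧ BlowUp.IsEffCartierIdeal D' ∧
      Disjoint E (D.support : Set X) ∧ Disjoint E (D'.support : Set X) ∧
      Nonempty (CohB1.tensorMod N (ClSub.idealMod D) ≅ ClSub.idealMod D') := by
  have hLi : PicF.IsInvertible L := (H11Ample.isAmple_iff.1 hL).1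
  have hO : PicF.IsInvertible (Coh.structureModule X) := H11Ample.isInvertible_of_gen fun _ =>
    ⟨⊤, H11Ample.one ⊤, trivial, H11Ample.isGen_one ⊤⟩
  obtain ⟨N', hN', ⟨eN⟩⟩ := H11Sym.exists_inverse hN
  obtain ⟨L', hL', ⟨eL⟩⟩ := H11Sym.exists_inverse hLi
  let T := E ∪ {y : X | Curv2.IsWeakAssPoint (Coh.structureModule X) y}
  have hT : T.Finite := hE.union finite_weakAssPoints
  obtain ⟨J₁, h₁⟩ := H22Alg.GenSection.exists_section_finite hL hN' hT
  obtain ⟨J₂, h₂⟩ := H22Alg.GenSection.exists_section_finite hL hO hT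
  let j := max J₁ J₂
  obtain ⟨g₁, hg₁⟩ := h₁ j (le_max_left _ _)
  obtain ⟨g₂, hg₂⟩ := h₂ j (le_max_right _ _)
  let Lj := CohB1.tensorPow L j
  let A := CohB1.tensorPow L' j
  have hLj : PicF.IsInvertible Lj := H11Ample.isInvertible_tensorPow hLi j
  have hA : PicF.IsInvertible A := H11Ample.isInvertible_tensorPow hL' j
  obtain ⟨eA⟩ := H11Ample.nonempty_tensorPow_inverse (H11Ample.tensorCommIso L L' ≪≫ eL) hLi hL' j
  -- the first divisor
  let e₂ : CohB1.tensorMod (CohB1.tensorMod (Coh.structureModule X) Lj) A ≅ Coh.structureModule X :=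
    PicGrp.tensorModIso (H11Ample.tensorLeftUnitIso Lj) (Iso.refl A) ≪≫ eA
  obtain ⟨D, hD, ⟨φD⟩, hdD⟩ := exists_effCartier_of_section hA e₂ g₂ (Set.subset_union_right.trans hg₂)
  -- the second divisor
  have hNA := H11Ample.isInvertible_tensor hN hA
  have hN'L := H11Ample.isInvertible_tensor hN' hLj
  obtain ⟨a₁⟩ := H11Ample.exists_iso_assoc hN'L hN hA
  obtain ⟨a₂⟩ := H11Ample.exists_iso_assoc hN' hLj hN
  obtain ⟨a₃⟩ := H11Ample.exists_iso_assoc hN' hN hLj
  let e₁ : CohB1.tensorMod (CohB1.tensorMod N' Lj) (CohB1.tensorMod N A) ≅ Coh.structureModule X :=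
    a₁.symm ≪≫ PicGrp.tensorModIso (a₂ ≪≫ PicGrp.tensorModIso (Iso.refl N') (H11Ample.tensorCommIso Lj N) ≪≫
      a₃.symm ≪≫ PicGrp.tensorModIso eN (Iso.refl Lj) ≪≫ H11Ample.tensorLeftUnitIso Lj) (Iso.refl A) ≪≫ eA
  obtain ⟨D', hD', ⟨φD'⟩, hdD'⟩ := exists_effCartier_of_section hNA e₁ g₁ (Set.subset_union_right.trans hg₁)
  exact ⟨D, D', hD, hD', hdD.mono_left (Set.subset_union_left.trans hg₂),
    hdD'.mono_left (Set.subset_union_left.trans hg₁),
    ⟨PicGrp.tensorModIso (Iso.refl N) φD.symm ≪≫ φD'⟩⟩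

end Groth.Agent.H11Div
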