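import Groth.Agent.H11Div.DimDivisor
import Groth.Agent.S5161
import Mathlib

/-!
# Complements of affine open immersions have codimension at most one
-/

set_option autoImplicit false
set_option linter.style.haveILetI false

universe u

open CategoryTheory AlgebraicGeometry TopologicalSpace

namespace Groth.Agent.H11Div

variable {X : Scheme.{u}}

theorem isAffineOpen_inf (U : X.Opens) [IsAffineHom U.ι] {V : X.Opens} (hV : IsAffineOpen V) :
    IsAffineOpen (U ⊓ V) := by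
  have h := (Scheme.Hom.isAffineOpen_iff_of_isOpenImmersion U.ι).2 (hV.preimage U.ι)
  rwa [Scheme.Hom.image_preimage_eq_opensRange_inf, Scheme.Opens.opensRange_ι] at h

theorem ringKrullDim_stalk_le_one_of_isAffineHom [IsLocallyNoetherian X] (U : X.Opens) [IsAffineHom U.ι]
    (ξ : X) (hξ : ξ ∉ U) (hgen : ∀ y : X, y ∉ U → y ⤳ ξ → y = ξ) :
    ringKrullDim (X.presheaf.stalk ξ) ≤ 1 := by
  obtain ⟨V, hV, hξV, -⟩ := exists_isAffineOpen_mem_and_subset (U := (⊤ : X.Opens)) (x := ξ) trivial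
  haveI : IsNoetherianRing Γ(X, V) := IsLocallyNoetherian.component_noetherian ⟨V, hV⟩
  have hW : IsAffineOpen (hV.fromSpec ⁻¹ᵁ (U ⊓ V)) := by
    refine (Scheme.Hom.isAffineOpen_iff_of_isOpenImmersion hV.fromSpec).1 ?_
    rw [Scheme.Hom.image_preimage_eq_opensRange_inf, hV.opensRange_fromSpec, inf_eq_right.2 inf_le_right]
    exact isAffineOpen_inf U hV
  have h := Groth.Agent.S5161.result Γ(X, V) (hV.fromSpec ⁻¹ᵁ (U ⊓ V)) hW (hV.primeIdealOf ⟨ξ, hξV⟩)
    (fun h => hξ (by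
      have h' : hV.fromSpec (hV.primeIdealOf ⟨ξ, hξV⟩) ∈ U ⊓ V := h
      rw [hV.fromSpec_primeIdealOf] at h'
      exact h'.1))
    (fun q hq hqU => by
      obtain ⟨y, hy⟩ := _root_.H29Blow.exists_primeIdealOf_eq hV q
      subst hy
      congr 1
      refine Subtype.ext (hgen y.1 (fun hyU => hqU ?_) ((_root_.H29Blow.primeIdealOf_le_iff hV y ⟨ξ, hξV⟩).1 hq))
      show hV.fromSpec (hV.primeIdealOf y) ∈ U ⊓ V
      rw [hV.fromSpec_primeIdealOf]
      exact ⟨hyU, y.2⟩)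
  rw [ringKrullDim_stalk_eq_height ⟨V, hV⟩ ⟨ξ, hξV⟩]
  exact_mod_cast h

theorem ringKrullDim_stalk_eq_one_of_isAffineHom [IsLocallyNoetherian X] (U : X.Opens) [IsAffineHom U.ι]
    (ξ : X) (hξ : ξ ∉ U) (hgen : ∀ y : X, y ∉ U → y ⤳ ξ → y = ξ) (hcl : ξ ∈ closure (U : Set X)) :
    ringKrullDim (X.presheaf.stalk ξ) = 1 := by
  classical
  refine le_antisymm (ringKrullDim_stalk_le_one_of_isAffineHom U ξ hξ hgen) ?_
  obtain ⟨V, hV, hξV, -⟩ := exists_isAffineOpen_mem_and_subset (U := (⊤ : X.Opens)) (x := ξ) trivial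
  haveI : IsNoetherianRing Γ(X, V) := IsLocallyNoetherian.component_noetherian ⟨V, hV⟩
  rw [ringKrullDim_stalk_eq_height ⟨V, hV⟩ ⟨ξ, hξV⟩]
  let p := (hV.primeIdealOf ⟨ξ, hξV⟩).asIdeal
  have hp : p.height ≠ 0 := fun h0 => by
    have hmin : p ∈ minimalPrimes Γ(X, V) := Ideal.height_eq_zero_iff.1 h0
    have hfin : (minimalPrimes Γ(X, V)).Finite := minimalPrimes.finite_of_isNoetherianRing Γ(X, V)
    obtain ⟨a, ha, hap⟩ : ∃ a, (∀ q ∈ minimalPrimes Γ(X, V), q ≠ p → a ∈ q) ∧ a ∉ p := by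
      by_contra hcon
      push Not at hcon
      have hle : (⨅ q ∈ hfin.toFinset.erase p, q) ≤ p := fun a ha => hcon a fun q hq hqp => by
        simp only [Ideal.mem_iInf] at ha
        exact ha q (Finset.mem_erase.2 ⟨hqp, hfin.mem_toFinset.2 hq⟩)
      obtain ⟨q, hq, hqp⟩ := (Ideal.IsPrime.inf_le' (hV.primeIdealOf ⟨ξ, hξV⟩).isPrime).1
        ((Finset.inf_eq_iInf (hfin.toFinset.erase p) id).le.trans hle)
      obtain ⟨hqne, hqm⟩ := Finset.mem_erase.1 hq
      have hqm' := hfin.mem_toFinset.1 hqm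
      exact hqne (le_antisymm hqp (hmin.2 hqm'.1 hqp))
    have hξa : ξ ∈ X.basicOpen a := by
      rw [X.mem_basicOpen a ξ hξV]
      by_contra hu
      exact hap ((_root_.H29Blow.mem_primeIdealOf_iff hV ⟨ξ, hξV⟩ a).2 hu)
    obtain ⟨y, hya, hyU⟩ := mem_closure_iff.1 hcl _ (X.basicOpen a).2 hξa
    have hyV : y ∈ V := X.basicOpen_le a hya
    obtain ⟨q, hq, hqy⟩ := Ideal.exists_minimalPrimes_le (I := ⊥) (J := (hV.primeIdealOf ⟨y, hyV⟩).asIdeal) bot_le
    have hqp : q = p := by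
      by_contra hne
      exact (_root_.H29Blow.mem_primeIdealOf_iff hV ⟨y, hyV⟩ a).1 (hqy (ha q hq hne))
        ((X.mem_basicOpen a y hyV).1 hya)
    exact hξ (((_root_.H29Blow.primeIdealOf_le_iff hV ⟨ξ, hξV⟩ ⟨y, hyV⟩).1 (hqp.symm.le.trans hqy)).mem_open U.2 hyU)
  have h1 : (1 : ℕ∞) ≤ p.height := Order.one_le_iff_ne_zero.2 hp
  exact_mod_cast h1

end Groth.Agent.H11Div
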