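import Groth.Agent.H11Div.UFDPrincipal
import Groth.Agent.H11Div.AffineCompl
import Groth.Agent.H29Blow.OfStalk
import Mathlib

/-!
# The reduced complement of a dense affine open is Cartier where the local rings are factorial
-/

set_option autoImplicit false
set_option linter.style.haveILetI false

universe u

open CategoryTheory AlgebraicGeometry TopologicalSpace

namespace Groth.Agent.H11Div

variable {X : Scheme.{u}}

theorem isEffCartierIdeal_vanishingIdeal_compl [IsLocallyNoetherian X] (U : X.Opens) [IsAffineHom U.ι]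
    (hdense : Dense (U : Set X))
    (hufd : ∀ x : X, x ∉ U → IsDomain (X.presheaf.stalk x) ∧ UniqueFactorizationMonoid (X.presheaf.stalk x)) :
    BlowUp.IsEffCartierIdeal
      (Scheme.IdealSheafData.vanishingIdeal ⟨(U : Set X)ᶜ, U.isOpen.isClosed_compl⟩) := by
  set Z : Closeds X := ⟨(U : Set X)ᶜ, U.isOpen.isClosed_compl⟩
  set I := Scheme.IdealSheafData.vanishingIdeal Z with hI
  have hsupp : ∀ y : X, y ∈ I.support ↔ y ∉ U := fun y => by
    rw [hI]; exact Iff.rfl
  refine _root_.H29Blow.isEffCartierIdeal_of_stalk I fun x V hxV => ?_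
  by_cases hxU : x ∈ U
  · refine ⟨1, one_mem _, ?_⟩
    rw [_root_.H29Blow.map_germ_eq_top_of_notMem_support I x V hxV (fun h => (hsupp x).1 h hxU),
      Ideal.span_singleton_one]
  obtain ⟨hdom, hu⟩ := hufd x hxU
  haveI : IsNoetherianRing Γ(X, V.1) := IsLocallyNoetherian.component_noetherian V
  let B := Γ(X, V.1)
  let A := X.presheaf.stalk x
  letI := TopCat.Presheaf.algebra_section_stalk X.presheaf (⟨x, hxV⟩ : V.1)
  haveI := V.2.isLocalization_stalk ⟨x, hxV⟩
  let p := (V.2.primeIdealOf ⟨x, hxV⟩).asIdeal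
  let I₀ := I.ideal V
  have hrad : ∀ (z : B) (n : ℕ), z ^ n ∈ I₀ → z ∈ I₀ := by
    intro z n hz
    show z ∈ (Scheme.IdealSheafData.vanishingIdeal Z).ideal V
    rw [Scheme.IdealSheafData.vanishingIdeal_ideal, PrimeSpectrum.mem_vanishingIdeal]
    intro P hP
    have hz' : z ^ n ∈ (Scheme.IdealSheafData.vanishingIdeal Z).ideal V := hz
    rw [Scheme.IdealSheafData.vanishingIdeal_ideal, PrimeSpectrum.mem_vanishingIdeal] at hz'
    exact P.isPrime.mem_of_pow_mem n (hz' P hP)
  haveI : IsNoetherianRing A := inferInstance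
  suffices key : ∀ (P : Ideal A) (c : A), P.IsPrime → (∀ a, a * c ∈ I₀.map (algebraMap B A) ↔ a ∈ P) →
      ∃ g : A, g ≠ 0 ∧ (∀ z ∈ I₀.map (algebraMap B A), ∃ s ∉ P, g ∣ s * z) ∧
        ∃ s ∉ P, s * g ∈ I₀.map (algebraMap B A) by
    obtain ⟨g, hg0, hgI⟩ := isPrincipal_of_localPrincipal (I₀.map (algebraMap B A)) key
    exact ⟨g, mem_nonZeroDivisors_of_ne_zero hg0, hgI⟩
  intro P c hP hPc
  have hIP : I₀.map (algebraMap B A) ≤ P := fun z hz => (hPc z).1 (Ideal.mul_mem_right _ _ hz)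
  have hcI : c ∉ I₀.map (algebraMap B A) := fun h =>
    hP.ne_top ((Ideal.eq_top_iff_one P).2 ((hPc 1).1 (by rwa [one_mul])))
  have hradA : ∀ z : A, z * z ∈ I₀.map (algebraMap B A) → z ∈ I₀.map (algebraMap B A) := by
    intro z hz
    obtain ⟨⟨z₀, t⟩, hzt⟩ := IsLocalization.surj p.primeCompl z
    have h2 : algebraMap B A (z₀ * z₀) ∈ I₀.map (algebraMap B A) := by
      rw [map_mul, ← hzt, show z * algebraMap B A t * (z * algebraMap B A t) =
        z * z * (algebraMap B A t * algebraMap B A t) by ring]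
      exact Ideal.mul_mem_right _ _ hz
    obtain ⟨s, hs, hsz⟩ := (IsLocalization.algebraMap_mem_map_algebraMap_iff p.primeCompl A I₀ _).1 h2
    have h3 : s * z₀ ∈ I₀ := hrad _ 2 (by
      rw [show (s * z₀) ^ 2 = s * (s * (z₀ * z₀)) by ring]
      exact Ideal.mul_mem_left _ _ hsz)
    have h4 := Ideal.mem_map_of_mem (algebraMap B A) h3
    rw [map_mul, ← hzt] at h4
    exact (Ideal.mul_unit_mem_iff_mem _ (IsLocalization.map_units A t)).1
      ((Ideal.unit_mul_mem_iff_mem _ (IsLocalization.map_units A (⟨s, hs⟩ : p.primeCompl))).1 h4)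
  have hcP : c ∉ P := fun h => hcI (hradA c ((hPc c).2 h))
  -- the point of `P`
  let q := P.comap (algebraMap B A)
  obtain ⟨y, hyq⟩ := _root_.H29Blow.exists_primeIdealOf_eq V.2 ⟨q, hP.comap _⟩
  have hyq' : (V.2.primeIdealOf y).asIdeal = q := congrArg PrimeSpectrum.asIdeal hyq
  have hyZ : y.1 ∉ U := (hsupp _).1 ((mem_support_iff_ideal_le I V y).2
    (hyq'.symm ▸ Ideal.map_le_iff_le_comap.1 hIP))
  have hgen : ∀ w : X, w ∉ U → w ⤳ y.1 → w = y.1 := fun w hw hwy => by
    have hwV : w ∈ V.1 := hwy.mem_open V.1.2 y.2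
    have hle : (V.2.primeIdealOf ⟨w, hwV⟩).asIdeal ≤ q :=
      hyq' ▸ (_root_.H29Blow.primeIdealOf_le_iff V.2 ⟨w, hwV⟩ y).2 hwy
    have hIw := (mem_support_iff_ideal_le I V ⟨w, hwV⟩).1 ((hsupp w).2 hw)
    have hge : q ≤ (V.2.primeIdealOf ⟨w, hwV⟩).asIdeal := fun a ha => by
      obtain ⟨⟨c₀, t⟩, hct⟩ := IsLocalization.surj p.primeCompl c
      have h1 : algebraMap B A (a * c₀) ∈ I₀.map (algebraMap B A) := by
        rw [map_mul, ← hct, ← mul_assoc]
        exact Ideal.mul_mem_right _ _ ((hPc _).2 ha)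
      obtain ⟨s, hs, hsac⟩ := (IsLocalization.algebraMap_mem_map_algebraMap_iff p.primeCompl A I₀ _).1 h1
      have hqp : q ≤ p := (Ideal.comap_mono (IsLocalRing.le_maximalIdeal hP.ne_top)).trans
        (IsLocalization.AtPrime.under_maximalIdeal A p).le
      have hc₀ : c₀ ∉ q := fun h => by
        have h' : c * algebraMap B A t ∈ P := hct ▸ h
        exact (hP.mem_or_mem h').elim hcP fun h'' => hP.ne_top
          (Ideal.eq_top_of_isUnit_mem _ h'' (IsLocalization.map_units A t))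
      rcases (V.2.primeIdealOf ⟨w, hwV⟩).isPrime.mem_or_mem (hIw hsac) with h | h
      · exact absurd (hqp (hle h)) hs
      · rcases (V.2.primeIdealOf ⟨w, hwV⟩).isPrime.mem_or_mem h with h | h
        · exact h
        · exact absurd (hle h) hc₀
    have e : V.2.primeIdealOf ⟨w, hwV⟩ = V.2.primeIdealOf y :=
      PrimeSpectrum.ext ((le_antisymm hle hge).trans hyq'.symm)
    have := congrArg V.2.fromSpec e
    rwa [V.2.fromSpec_primeIdealOf, V.2.fromSpec_primeIdealOf] at this
  have hh : q.height = 1 := by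
    have h1 := ringKrullDim_stalk_eq_one_of_isAffineHom U y.1 hyZ hgen (hdense.closure_eq.symm ▸ Set.mem_univ _)
    rw [ringKrullDim_stalk_eq_height V y, hyq'] at h1
    exact_mod_cast h1
  have hPh : P.height = 1 := by
    rw [← IsLocalization.height_under p.primeCompl P]
    exact hh
  have hPne : P ≠ ⊥ := by
    intro h0
    rw [h0, Ideal.height_bot] at hPh
    exact zero_ne_one hPh
  obtain ⟨π, hπP, hπ⟩ := hP.exists_mem_prime_of_ne_bot hPne
  haveI : (Ideal.span {π}).IsPrime := (Ideal.span_singleton_prime hπ.ne_zero).2 hπ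
  have hPπ : P = Ideal.span {π} := by
    by_contra hne
    have hlt : Ideal.span {π} < P := lt_of_le_of_ne ((Ideal.span_singleton_le_iff_mem _).2 hπP) (Ne.symm hne)
    have hlt' : (⊥ : Ideal A) < Ideal.span {π} :=
      bot_lt_iff_ne_bot.2 fun h => hπ.ne_zero (Ideal.span_singleton_eq_bot.1 h)
    haveI : P.FiniteHeight := ⟨Or.inr (by rw [hPh]; exact ENat.one_ne_top)⟩
    have h1 := Ideal.height_strict_mono_of_isPrime_of_isPrime hlt
    haveI : (Ideal.span {π}).FiniteHeight := ⟨Or.inr (ne_top_of_lt h1)⟩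
    have h2 := Ideal.height_strict_mono_of_isPrime_of_isPrime hlt'
    rw [hPh, Order.lt_one_iff] at h1
    exact not_lt_zero (h1 ▸ h2)
  refine ⟨π, hπ.ne_zero, fun z hz => ⟨1, fun h => hP.ne_top ((Ideal.eq_top_iff_one P).2 h), ?_⟩, c, hcP, ?_⟩
  · rw [one_mul, ← Ideal.mem_span_singleton, ← hPπ]
    exact hIP hz
  · rw [mul_comm]
    exact (hPc π).2 hπP

end Groth.Agent.H11Div
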