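import Groth.Agent.H29Blow.Basic
import Groth.Agent.H19Grp.SchDense
import Mathlib

/-!
# The complement of an effective Cartier divisor is scheme-theoretically dense
-/

set_option autoImplicit false
set_option linter.style.haveILetI false

universe u

open CategoryTheory AlgebraicGeometry TopologicalSpace Opposite

namespace Groth.Agent.H11Div

variable {S : Scheme.{u}}

theorem injective_res_compl (D : S.IdealSheafData) (hD : BlowUp.IsEffCartierIdeal D) (V : S.Opens) :
    Function.Injective (S.presheaf.map (homOfLE (inf_le_left : V ⊓ D.support.compl ≤ V)).op) := by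
  intro a b hab
  rw [← sub_eq_zero]
  rw [← sub_eq_zero, ← map_sub] at hab
  generalize a - b = c at hab
  refine TopCat.Sheaf.eq_of_locally_eq' S.sheaf
    (fun W : {W : S.affineOpens // W.1 ≤ V ∧ ∃ f ∈ nonZeroDivisors Γ(S, W.1), D.ideal W = Ideal.span {f}} => W.1.1)
    V (fun W => homOfLE W.2.1) (fun x hx => ?_) c 0 fun W => ?_
  · obtain ⟨W, hxW, hWV, f, hf, hfW⟩ := _root_.H29Blow.exists_gen hD (x := x) (W := V) hx
    exact Opens.mem_iSup.2 ⟨⟨W, hWV, f, hf, hfW⟩, hxW⟩
  · obtain ⟨W, hWV, f, hf, hfW⟩ := W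
    show S.presheaf.map (homOfLE hWV).op c = S.presheaf.map (homOfLE hWV).op 0
    rw [map_zero]
    have hbo : S.basicOpen f ≤ V ⊓ D.support.compl := by
      refine le_inf ((S.basicOpen_le f).trans hWV) fun y hy hyD => ?_
      have h' := (Scheme.IdealSheafData.mem_support_iff_of_mem (S.basicOpen_le f hy)).1 hyD
      rw [Scheme.mem_zeroLocus_iff] at h'
      exact h' f (show f ∈ D.ideal W from hfW ▸ Ideal.mem_span_singleton_self f) hy
    have h0 : S.presheaf.map (homOfLE (S.basicOpen_le f)).op (S.presheaf.map (homOfLE hWV).op c) = 0 := by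
      have h := congrArg (S.presheaf.map (homOfLE hbo).op) hab
      rw [map_zero, ← ConcreteCategory.comp_apply, ← Functor.map_comp] at h
      rw [← ConcreteCategory.comp_apply, ← Functor.map_comp]
      exact h
    haveI := W.2.isLocalization_basicOpen f
    obtain ⟨⟨_, n, rfl⟩, hn⟩ := (IsLocalization.map_eq_zero_iff (Submonoid.powers f) Γ(S, S.basicOpen f) _).1 h0
    exact (mem_nonZeroDivisors_iff_left.1 (pow_mem hf n)) _ hn

theorem isSchemeTheoreticallyDominant_compl (D : S.IdealSheafData) (hD : BlowUp.IsEffCartierIdeal D) :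
    IsSchemeTheoreticallyDominant (Scheme.Opens.ι (X := S) D.support.compl) :=
  ⟨Groth.Agent.H19Grp.ker_opens_ι_eq_bot _ fun V => injective_res_compl D hD V⟩

end Groth.Agent.H11Div
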