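import Groth.Agent.H29Blow.PointsOfAffine
import Mathlib.RingTheory.Ideal.KrullsHeightTheorem
import Mathlib.AlgebraicGeometry.IdealSheaf.Basic
import Mathlib.AlgebraicGeometry.Noetherian

/-!
# Dimension of the local ring at a maximal point of a locally principal closed subscheme
-/

set_option autoImplicit false
set_option linter.style.haveILetI false

universe u

open CategoryTheory AlgebraicGeometry TopologicalSpace

namespace Groth.Agent.H11Div

variable {X : Scheme.{u}}

theorem mem_support_iff_ideal_le (D : X.IdealSheafData) (U : X.affineOpens) (y : U.1) :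
    y.1 ∈ D.support ↔ D.ideal U ≤ (U.2.primeIdealOf y).asIdeal := by
  rw [Scheme.IdealSheafData.mem_support_iff_of_mem y.2, Scheme.mem_zeroLocus_iff]
  constructor
  · intro h a ha
    rw [_root_.H29Blow.mem_primeIdealOf_iff]
    exact fun hu => h a ha ((X.mem_basicOpen a y.1 y.2).2 hu)
  · intro h a ha hy
    exact ((_root_.H29Blow.mem_primeIdealOf_iff U.2 y a).1 (h ha)) ((X.mem_basicOpen a y.1 y.2).1 hy)

theorem primeIdealOf_mem_minimalPrimes (D : X.IdealSheafData) (U : X.affineOpens) (ξ : U.1)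
    (hξ : ξ.1 ∈ D.support) (hgen : ∀ y ∈ (D.support : Set X), y ⤳ ξ.1 → y = ξ.1) :
    (U.2.primeIdealOf ξ).asIdeal ∈ (D.ideal U).minimalPrimes := by
  refine ⟨⟨inferInstance, (mem_support_iff_ideal_le D U ξ).1 hξ⟩, fun q hq hle => ?_⟩
  obtain ⟨y, hy⟩ := _root_.H29Blow.exists_primeIdealOf_eq U.2 ⟨q, hq.1⟩
  have hy' : (U.2.primeIdealOf y).asIdeal = q := congrArg PrimeSpectrum.asIdeal hy
  have : y = ξ := Subtype.ext (hgen y.1 ((mem_support_iff_ideal_le D U y).2 (hy'.symm ▸ hq.2))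
    ((_root_.H29Blow.primeIdealOf_le_iff U.2 y ξ).1 (hy'.symm ▸ hle)))
  rw [← hy', this]

theorem ringKrullDim_stalk_eq_height (U : X.affineOpens) (ξ : U.1) :
    ringKrullDim (X.presheaf.stalk ξ.1) = ((U.2.primeIdealOf ξ).asIdeal.height : WithBot ℕ∞) := by
  letI := TopCat.Presheaf.algebra_section_stalk X.presheaf ξ
  haveI := U.2.isLocalization_stalk ξ
  exact IsLocalization.AtPrime.ringKrullDim_eq_height (U.2.primeIdealOf ξ).asIdeal (X.presheaf.stalk ξ.1)

theorem ringKrullDim_stalk_le_one [IsLocallyNoetherian X] (D : X.IdealSheafData) (U : X.affineOpens)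
    (f : Γ(X, U.1)) (hU : D.ideal U = Ideal.span {f}) (ξ : U.1)
    (hξ : ξ.1 ∈ D.support) (hgen : ∀ y ∈ (D.support : Set X), y ⤳ ξ.1 → y = ξ.1) :
    ringKrullDim (X.presheaf.stalk ξ.1) ≤ 1 := by
  haveI : IsNoetherianRing Γ(X, U.1) := IsLocallyNoetherian.component_noetherian U
  have h := primeIdealOf_mem_minimalPrimes D U ξ hξ hgen
  rw [hU] at h
  haveI : (Ideal.span {f}).IsPrincipal := ⟨f, rfl⟩
  rw [ringKrullDim_stalk_eq_height]
  exact_mod_cast Ideal.height_le_one_of_isPrincipal_of_mem_minimalPrimes _ _ h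

theorem ringKrullDim_stalk_eq_one [IsLocallyNoetherian X] (D : X.IdealSheafData) (U : X.affineOpens)
    (f : Γ(X, U.1)) (hf : f ∈ nonZeroDivisors Γ(X, U.1)) (hU : D.ideal U = Ideal.span {f}) (ξ : U.1)
    (hξ : ξ.1 ∈ D.support) (hgen : ∀ y ∈ (D.support : Set X), y ⤳ ξ.1 → y = ξ.1) :
    ringKrullDim (X.presheaf.stalk ξ.1) = 1 := by
  haveI : IsNoetherianRing Γ(X, U.1) := IsLocallyNoetherian.component_noetherian U
  have h := primeIdealOf_mem_minimalPrimes D U ξ hξ hgen
  rw [hU] at h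
  haveI : (Ideal.span {f}).IsPrincipal := ⟨f, rfl⟩
  have hnu : ¬ IsUnit f := fun hu => h.1.1.ne_top (top_le_iff.1
    ((Ideal.span_singleton_eq_top.2 hu).ge.trans h.1.2))
  rw [ringKrullDim_stalk_eq_height]
  have h1 := Ideal.height_le_one_of_isPrincipal_of_mem_minimalPrimes _ _ h
  have h2 := (Ideal.height_span_singleton_eq_one_of_mem_nonZeroDivisors hf hnu).ge.trans (Ideal.height_mono h.1.2)
  exact_mod_cast le_antisymm h1 h2

end Groth.Agent.H11Div
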