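import Groth.Agent.H8Props.DivisorSection
import Groth.Agent.H17.PullSect
import Groth.Agent.H11Ample.Converse

/-!
# The dual of an invertible module commutes with pullback
-/

set_option autoImplicit false
set_option linter.style.haveILetI false

noncomputable section

universe u

open CategoryTheory CategoryTheory.Limits AlgebraicGeometry Opposite TopologicalSpace
open Groth.Agent.H11Tilde Groth.Agent.H11Ample Groth.Agent.H8Props.DivisorSection

namespace Groth.Agent.H11Div

variable {X : Scheme.{u}} {F : X.Modules}

/-- `s` is dual to `e`. -/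
def IsDualGen {U : X.Opens} (e : Γ(F, U)) (s : Γ(RefHull.dual F, U)) : Prop :=
  ∀ y : U, s.1 y (F.presheaf.germ U y.1 y.2 e) = H29Ref.oneStalk y.1

theorem IsDualGen.res {U V : X.Opens} {e : Γ(F, U)} {s : Γ(RefHull.dual F, U)} (h : IsDualGen e s) (hV : V ≤ U) :
    IsDualGen (F.presheaf.map (homOfLE hV).op e) ((RefHull.dual F).presheaf.map (homOfLE hV).op s) := fun y => by
  refine Eq.trans (congrArg (s.1 ⟨y.1, hV y.2⟩) ?_) (h ⟨y.1, hV y.2⟩)
  exact TopCat.Presheaf.germ_res_apply F.presheaf _ y.1 y.2 e

/-- Dual generators transform inversely. -/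
theorem IsDualGen.eq_smul {U : X.Opens} {e e' : Γ(F, U)} {s s' : Γ(RefHull.dual F, U)} (he : IsGen F e)
    (h : IsDualGen e s) (h' : IsDualGen e' s') {c : Γ(X, U)} (hc : e' = c • e) : s = c • s' := by
  refine H29Ref.homSh_ext le_rfl (fun _ : Unit => e) (span_germ_gen he) fun _ y => ?_
  have h1 := h' y
  rw [hc, Mero.germ_smul, map_smul] at h1
  exact (h y).trans h1.symm

/-- The dual of an invertible module commutes with pullback. -/
theorem nonempty_pullback_dual {Z : Scheme.{u}} (q : Z ⟶ X) (hF : PicF.IsInvertible F) :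
    Nonempty ((Scheme.Modules.pullback q).obj (RefHull.dual F) ≅
      RefHull.dual ((Scheme.Modules.pullback q).obj F)) := by
  choose U e hxU he using exists_gen hF
  choose s hse hs using fun x => exists_dual_gen (he x)
  have hpe := fun x => IsGen.pullSect q (he x)
  choose t hte ht using fun x => exists_dual_gen (hpe x)
  obtain ⟨φ, -⟩ := exists_iso_of_gen (fun x : X => q ⁻¹ᵁ U x) (fun z => ⟨q z, hxU (q z)⟩)
    (fun x => OmegaSh.pullSect q _ _ (s x)) (fun x => IsGen.pullSect q (hs x)) t ht fun i j u hu => by
      let W := U i ⊓ U j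
      let ei := F.presheaf.map (homOfLE (inf_le_left : W ≤ U i)).op (e i)
      obtain ⟨c, hc⟩ := exists_coeff ((he i).res (inf_le_left : W ≤ U i))
        (F.presheaf.map (homOfLE (inf_le_right : W ≤ U j)).op (e j))
      have hsc := IsDualGen.eq_smul ((he i).res (inf_le_left : W ≤ U i)) (IsDualGen.res (hse i) inf_le_left)
        (IsDualGen.res (hse j) inf_le_right) hc
      have hps := congrArg (OmegaSh.pullSect q (RefHull.dual F) W) hsc
      rw [OmegaSh.pullSect_smul, pullSect_res, pullSect_res] at hps
      have hpc := congrArg (OmegaSh.pullSect q F W) hc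
      rw [OmegaSh.pullSect_smul, pullSect_res, pullSect_res] at hpc
      have hu' : u = q.app W c :=
        (((IsGen.pullSect q (hs j)).res (q.preimage_mono (inf_le_right : W ≤ U j))).bijective le_rfl).1
          (by beta_reduce; rw [H10Coh.mres_self]; exact hu.symm.trans hps)
      rw [hu']
      exact IsDualGen.eq_smul ((hpe i).res (q.preimage_mono (inf_le_left : W ≤ U i)))
        (IsDualGen.res (hte i) (q.preimage_mono inf_le_left))
        (IsDualGen.res (hte j) (q.preimage_mono inf_le_right)) hpc
  exact ⟨φ⟩

end Groth.Agent.H11Div
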