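import Mathlib.AlgebraicGeometry.IdealSheaf.Functorial
import Mathlib.AlgebraicGeometry.ResidueField
import Mathlib.AlgebraicGeometry.Morphisms.Flat
import Mathlib.AlgebraicGeometry.Noetherian
import Mathlib.RingTheory.TensorProduct.Pi
import Mathlib.RingTheory.Ideal.MinimalPrime.Localization
import Mathlib.RingTheory.LocalRing.ResidueField.Ideal

/-!
# Containment of closed subschemes can be tested on the fibres over a reduced base

If `Z = V(D')` is flat over a reduced locally Noetherian `T` then its generic fibres are schematically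
dense, so `Z ⊆ V(D)` as soon as this holds on every fibre.
-/

set_option autoImplicit false
set_option linter.style.haveILetI false
universe u

open CategoryTheory CategoryTheory.Limits AlgebraicGeometry TensorProduct

namespace Groth.Agent.H11Div.GenericFibreContain

/-- A flat algebra over a reduced Noetherian ring embeds into its generic fibres. -/
theorem eq_zero_of_generic_fibres {A B : Type u} [CommRing A] [CommRing B] [Algebra A B] [IsReduced A]
    [IsNoetherianRing A] [Module.Flat A B] (b : B)
    (h : ∀ (p : Ideal A) (_ : p.IsPrime), p ∈ minimalPrimes A →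
      b ⊗ₜ[A] (1 : p.ResidueField) = 0) : b = 0 := by
  classical
  let P := {p : Ideal A // p ∈ minimalPrimes A}
  haveI : Finite P := (minimalPrimes.finite_of_isNoetherianRing A).to_subtype
  letI : Fintype P := Fintype.ofFinite P
  haveI : ∀ p : P, p.1.IsPrime := fun p => p.2.1.1
  let φ : A →ₗ[A] (∀ p : P, p.1.ResidueField) := LinearMap.pi fun p => Algebra.linearMap A _
  have hφ : Function.Injective φ := by
    rw [← LinearMap.ker_eq_bot, eq_bot_iff]
    intro a ha
    have hmem : a ∈ nilradical A := by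
      rw [nilradical, Ideal.radical_eq_sInf, Submodule.mem_sInf]
      rintro q ⟨-, hq⟩
      haveI := hq
      obtain ⟨p, hp, hpq⟩ := Ideal.exists_minimalPrimes_le (J := q) (I := ⊥) bot_le
      haveI : p.IsPrime := hp.1.1
      exact hpq (Ideal.algebraMap_residueField_eq_zero.1 (congrFun ha ⟨p, hp⟩))
    rwa [nilradical_eq_zero] at hmem
  have hinj := Module.Flat.lTensor_preserves_injective_linearMap (M := B) φ hφ
  have hb : φ.lTensor B (b ⊗ₜ[A] (1 : A)) = 0 := by
    apply (TensorProduct.piRight A A B fun p : P => p.1.ResidueField).injective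
    rw [map_zero]
    funext p
    rw [LinearMap.lTensor_tmul, TensorProduct.piRight_apply, TensorProduct.piRightHom_tmul]
    simpa [φ] using h p.1 inferInstance p.2
  have h0 : b ⊗ₜ[A] (1 : A) = 0 := hinj (hb.trans (map_zero _).symm)
  simpa using congrArg (TensorProduct.rid A B) h0

variable {C T : Scheme.{u}} (π : C ⟶ T) {D D' : C.IdealSheafData}

/-- The affine case. -/
theorem le_ker_of_fibres (hfib : ∀ t : T, D.comap (pullback.fst π (T.fromSpecResidueField t)) ≤
      D'.comap (pullback.fst π (T.fromSpecResidueField t)))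
    {A B : CommRingCat.{u}} [IsReduced A] [IsNoetherianRing A] (φ : A ⟶ B) (hφ : φ.hom.Flat)
    (v : Spec A ⟶ T) (g : Spec B ⟶ C) (hg : g ≫ π = Spec.map φ ≫ v) (hD' : D' ≤ g.ker) : D ≤ g.ker := by
  rw [← Scheme.IdealSheafData.map_bot, Scheme.IdealSheafData.le_map_iff_comap_le]
  refine Scheme.IdealSheafData.le_of_isAffine fun x hx => ?_
  rw [Scheme.IdealSheafData.ideal_bot, Pi.bot_apply, Submodule.mem_bot]
  letI := φ.hom.toAlgebra
  haveI : Module.Flat A B := hφ
  apply (Scheme.ΓSpecIso B).commRingCatIsoToRingEquiv.injective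
  rw [map_zero]
  refine eq_zero_of_generic_fibres (A := A) _ fun p hp _ => ?_
  let ι₁ : B ⟶ CommRingCat.of (B ⊗[A] p.ResidueField) :=
    CommRingCat.ofHom Algebra.TensorProduct.includeLeftRingHom
  let ι₂ : CommRingCat.of p.ResidueField ⟶ CommRingCat.of (B ⊗[A] p.ResidueField) :=
    CommRingCat.ofHom (Algebra.TensorProduct.includeRight (R := A) (A := B)).toRingHom
  have hι : φ ≫ ι₁ = CommRingCat.ofHom (algebraMap A p.ResidueField) ≫ ι₂ := by
    ext a
    exact Algebra.TensorProduct.tmul_one_eq_one_tmul a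
  let z : Spec (CommRingCat.of p.ResidueField) ⟶ T := Spec.map (CommRingCat.ofHom (algebraMap A p.ResidueField)) ≫ v
  let t : T := z (IsLocalRing.closedPoint p.ResidueField)
  have hz := Scheme.descResidueField_stalkClosedPointTo_fromSpecResidueField p.ResidueField T z
  have hj : (Spec.map ι₁ ≫ g) ≫ π =
      (Spec.map ι₂ ≫ Spec.map (T.descResidueField (Scheme.stalkClosedPointTo z))) ≫ T.fromSpecResidueField t := by
    rw [Category.assoc, hg, ← Spec.map_comp_assoc, hι, Spec.map_comp_assoc, Category.assoc, hz]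
  let j := pullback.lift _ _ hj
  have hle : D ≤ (Spec.map ι₁ ≫ g).ker := by
    have h1 : D' ≤ (j ≫ pullback.fst π (T.fromSpecResidueField t)).ker := by
      rw [pullback.lift_fst]
      exact hD'.trans ((Spec.map ι₁).le_ker_comp g)
    have h2 : D'.comap (pullback.fst π (T.fromSpecResidueField t)) ≤ j.ker := by
      rw [← Scheme.IdealSheafData.map_ker] at h1
      exact Scheme.IdealSheafData.le_map_iff_comap_le.1 h1
    rw [← pullback.lift_fst _ _ hj, ← Scheme.IdealSheafData.map_ker, Scheme.IdealSheafData.le_map_iff_comap_le]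
    exact (hfib t).trans h2
  rw [← Scheme.IdealSheafData.map_ker, Scheme.IdealSheafData.le_map_iff_comap_le] at hle
  have h3 := hle ⟨⊤, isAffineOpen_top _⟩ hx
  rw [Scheme.ker_of_isAffine, Scheme.IdealSheafData.ofIdealTop_ideal] at h3
  have h4 : (Spec.map ι₁).appTop x = 0 := by simpa using h3
  have h5 : ι₁ ((Scheme.ΓSpecIso B).hom x) = 0 := by
    have := congrArg (Scheme.ΓSpecIso (CommRingCat.of (B ⊗[A] p.ResidueField))).hom h4
    rw [map_zero, ← CommRingCat.comp_apply, Scheme.ΓSpecIso_naturality] at this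
    exact this
  exact h5

/-- **Containment on all fibres implies containment**, for a flat closed subscheme over a reduced base. -/
theorem le_of_fibres [IsLocallyNoetherian T] [AlgebraicGeometry.IsReduced T] (hD' : Flat (D'.subschemeι ≫ π))
    (hfib : ∀ t : T, D.comap (pullback.fst π (T.fromSpecResidueField t)) ≤
      D'.comap (pullback.fst π (T.fromSpecResidueField t))) : D ≤ D' := by
  let Z := D'.subscheme
  let f : Z ⟶ T := D'.subschemeι ≫ π
  have hcov : ∀ z : Z, ∃ (V : T.affineOpens) (W : Z.affineOpens), z ∈ W.1 ∧ W.1 ≤ f ⁻¹ᵁ V.1 := fun z => by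
    obtain ⟨V, hV, hzV, -⟩ := exists_isAffineOpen_mem_and_subset (X := T) (x := f z) (U := ⊤) trivial
    obtain ⟨W, hW, hzW, hWV⟩ := exists_isAffineOpen_mem_and_subset (X := Z) (x := z) (U := f ⁻¹ᵁ V) hzV
    exact ⟨⟨V, hV⟩, ⟨W, hW⟩, hzW, hWV⟩
  choose V W hzW hWV using hcov
  have key : D.comap D'.subschemeι = ⊥ := by
    refine Scheme.IdealSheafData.ext_of_iSup_eq_top W (eq_top_iff.2 fun z _ => ?_) fun z => ?_
    · exact TopologicalSpace.Opens.mem_iSup.2 ⟨z, hzW z⟩
    haveI := IsLocallyNoetherian.component_noetherian (V z)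
    have e := IsAffineOpen.SpecMap_appLE_fromSpec f (V z).2 (W z).2 (hWV z)
    have hle : D ≤ ((W z).2.fromSpec ≫ D'.subschemeι).ker := by
      refine le_ker_of_fibres π hfib (f.appLE (V z).1 (W z).1 (hWV z)) (HasRingHomProperty.appLE @Flat f hD' _ _ _)
        (V z).2.fromSpec _ (by rw [Category.assoc]; exact e.symm) ?_
      exact (D'.ker_subschemeι.ge).trans ((W z).2.fromSpec.le_ker_comp D'.subschemeι)
    rw [← Scheme.IdealSheafData.map_bot, Scheme.IdealSheafData.le_map_iff_comap_le, Scheme.IdealSheafData.comap_comp]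
      at hle
    have h1 : ((D.comap D'.subschemeι).comap (W z).2.fromSpec).ideal ⟨⊤, isAffineOpen_top _⟩ = ⊥ := by
      rw [le_bot_iff.1 hle]; rfl
    rw [Scheme.IdealSheafData.ideal_comap_of_isOpenImmersion] at h1
    have hW : (⟨(W z).2.fromSpec ''ᵁ ⊤, (isAffineOpen_top _).image_of_isOpenImmersion _⟩ : Z.affineOpens) = W z :=
      Subtype.ext ((Scheme.Hom.image_top_eq_opensRange _).trans (W z).2.opensRange_fromSpec)
    rw [Scheme.IdealSheafData.ideal_bot, Pi.bot_apply, ← hW, eq_bot_iff]
    intro a ha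
    obtain ⟨b, rfl⟩ := ((W z).2.fromSpec.appIso ⊤).commRingCatIsoToRingEquiv.symm.surjective a
    have hb : b ∈ (⊥ : Ideal _) := h1.le (Ideal.mem_comap.2 ha)
    rw [Submodule.mem_bot] at hb
    rw [Submodule.mem_bot, hb, map_zero]
  rw [← D'.ker_subschemeι, ← Scheme.IdealSheafData.map_bot, Scheme.IdealSheafData.le_map_iff_comap_le, key]

end Groth.Agent.H11Div.GenericFibreContain
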