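import Mathlib

/-!
# Regular elements supported on finitely many principal primes
-/

set_option autoImplicit false
set_option linter.style.haveILetI false
universe u

namespace Groth.Agent.H11Div

variable {A : Type u} [CommRing A] [IsNoetherianRing A] [IsLocalRing A]

theorem exists_pow_mul_notMem {f h : A} (hf : Ideal.span {f} ≠ ⊤) (hh : h ∈ nonZeroDivisors A) :
    ∃ (n : ℕ) (h' : A), h = f ^ n * h' ∧ h' ∉ Ideal.span {f} := by
  classical
  have hex : ∃ n, ¬ f ^ (n + 1) ∣ h := by
    by_contra hc
    push Not at hc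
    refine zero_notMem_nonZeroDivisors (M₀ := A) ?_
    have : h ∈ ⨅ n : ℕ, Ideal.span {f} ^ n := Submodule.mem_iInf _ |>.2 fun n => by
      rw [Ideal.span_singleton_pow, Ideal.mem_span_singleton]
      exact (pow_dvd_pow f (Nat.le_succ n)).trans (hc n)
    rw [Ideal.iInf_pow_eq_bot_of_isLocalRing _ hf, Submodule.mem_bot] at this
    rwa [this] at hh
  have hdvd : f ^ Nat.find hex ∣ h := by
    rcases Nat.eq_zero_or_pos (Nat.find hex) with h0 | h0
    · rw [h0, pow_zero]; exact one_dvd _
    · have := not_not.1 (Nat.find_min hex (Nat.sub_lt h0 Nat.one_pos))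
      rwa [Nat.sub_add_cancel h0] at this
  obtain ⟨h', e⟩ := hdvd
  refine ⟨Nat.find hex, h', e, fun hm => Nat.find_spec hex ?_⟩
  obtain ⟨c, hc⟩ := Ideal.mem_span_singleton.1 hm
  exact ⟨c, by rw [pow_succ, mul_assoc, ← hc]; exact e⟩

/-- A regular element, all primes over which contain one of finitely many regular elements generating
prime ideals, generates a product of powers of these primes. -/
theorem exists_span_eq_prod {ι : Type u} (s : Finset ι) (f : ι → A)
    (hf : ∀ i ∈ s, f i ∈ nonZeroDivisors A ∧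
      ((Ideal.span {f i}).IsPrime ∨ Ideal.span {f i} = ⊤)) :
    ∀ g ∈ nonZeroDivisors A, (∀ P : Ideal A, P.IsPrime → g ∈ P → ∃ i ∈ s, f i ∈ P) →
      ∃ m : ι → ℕ, Ideal.span {g} = ∏ i ∈ s, Ideal.span {f i} ^ m i := by
  classical
  induction s using Finset.induction with
  | empty =>
    intro g _ hP
    refine ⟨fun _ => 0, ?_⟩
    rw [Finset.prod_empty, Ideal.one_eq_top, Ideal.span_singleton_eq_top]
    by_contra hu
    obtain ⟨M, hM, hgM⟩ := exists_max_ideal_of_mem_nonunits hu
    obtain ⟨i, hi, -⟩ := hP M hM.isPrime hgM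
    exact Finset.notMem_empty i hi
  | insert a s ha ih =>
    intro g hg hP
    obtain ⟨hfa, hfa'⟩ := hf a (Finset.mem_insert_self a s)
    have ih' := ih fun i hi => hf i (Finset.mem_insert_of_mem hi)
    by_cases htop : Ideal.span {f a} = ⊤
    · obtain ⟨m, hm⟩ := ih' g hg fun P hPp hgP => by
        obtain ⟨i, hi, hiP⟩ := hP P hPp hgP
        rcases Finset.mem_insert.1 hi with rfl | hi
        · exact absurd (top_le_iff.1 (htop ▸ (Ideal.span_singleton_le_iff_mem _).2 hiP)) hPp.ne_top
        · exact ⟨i, hi, hiP⟩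
      refine ⟨m, ?_⟩
      rw [Finset.prod_insert ha, htop, ← Ideal.one_eq_top, one_pow, one_mul, hm]
    haveI hprime : (Ideal.span {f a}).IsPrime := hfa'.resolve_right htop
    obtain ⟨n, g', hgg', hg'⟩ := exists_pow_mul_notMem htop hg
    have hg'nzd : g' ∈ nonZeroDivisors A := (mul_mem_nonZeroDivisors.1 (hgg' ▸ hg)).2
    obtain ⟨m, hm⟩ := ih' g' hg'nzd fun P hPp hgP => by
      haveI := hPp
      obtain ⟨Q, hQ, hQP⟩ := Ideal.exists_minimalPrimes_le ((Ideal.span_singleton_le_iff_mem P).2 hgP)
      haveI := hQ.1.1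
      have hgQ : g' ∈ Q := (Ideal.span_singleton_le_iff_mem Q).1 hQ.1.2
      obtain ⟨i, hi, hiQ⟩ := hP Q inferInstance (hgg' ▸ Q.mul_mem_left _ hgQ)
      rcases Finset.mem_insert.1 hi with rfl | hi
      · exfalso
        have hle : Ideal.span {f i} ≤ Q := (Ideal.span_singleton_le_iff_mem Q).2 hiQ
        have hlt : Ideal.span {f i} < Q := lt_of_le_of_ne hle fun e => hg' (e ▸ hgQ)
        have h1 : Q.height ≤ 1 := by
          haveI : (Ideal.span {g'}).IsPrincipal := ⟨g', rfl⟩
          exact Ideal.height_le_one_of_isPrincipal_of_mem_minimalPrimes (Ideal.span {g'}) Q hQ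
        have h2 : (Ideal.span {f i}).height ≠ 0 := by
          rw [Ne, Ideal.height_eq_zero_iff]
          intro hmin
          exact Set.disjoint_left.1 (Ideal.disjoint_nonZeroDivisors_of_mem_minimalPrimes hmin)
            (Ideal.mem_span_singleton_self _) hfa
        haveI : (Ideal.span {f i}).FiniteHeight :=
          ⟨Or.inr (ne_top_of_le_ne_top (ne_top_of_le_ne_top (by simp) h1) (Ideal.height_mono hle))⟩
        have h3 := Ideal.height_strict_mono_of_isPrime hlt
        have h4 : (Ideal.span {f i}).height = 0 := Order.lt_one_iff.1 (lt_of_lt_of_le h3 h1)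
        exact h2 h4
      · exact ⟨i, hi, hQP hiQ⟩
    refine ⟨Function.update m a n, ?_⟩
    rw [Finset.prod_insert ha, Function.update_self, hgg', ← Ideal.span_singleton_mul_span_singleton,
      ← Ideal.span_singleton_pow, hm]
    congr 1
    exact Finset.prod_congr rfl fun i hi => by rw [Function.update_of_ne (ne_of_mem_of_not_mem hi ha)]

end Groth.Agent.H11Div
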