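import Groth.Agent.H11Div.UFDPrincipal
import Groth.Agent.H11Div.DimDivisor
import Groth.Agent.H29Blow.OfStalk
import Mathlib

/-!
# Extension of effective Cartier divisors over points with factorial local rings
-/

set_option autoImplicit false
set_option linter.style.haveILetI false

noncomputable section

universe u

open CategoryTheory AlgebraicGeometry TopologicalSpace Opposite

namespace Groth.Agent.H11Div

variable {X : Scheme.{u}} (U : X.Opens) (D : (U : Scheme.{u}).IdealSheafData)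

/-- The scheme-theoretic closure of a closed subscheme of an open. -/
def closureIdeal : X.IdealSheafData := (D.subschemeι ≫ U.ι).ker

theorem closureIdeal_comap [IsLocallyNoetherian X] : (closureIdeal U D).comap U.ι = D := by
  haveI : QuasiCompact (D.subschemeι ≫ U.ι) := inferInstance
  refine _root_.H29Blow.ext_of_forall_exists fun u => ?_
  obtain ⟨W, hW, huW, hWU⟩ := exists_isAffineOpen_mem_and_subset (U := U) (x := U.ι u) u.2
  have hr : W ≤ U.ι.opensRange := by rw [Scheme.Opens.opensRange_ι]; exact hWU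
  have hW0 : IsAffineOpen (U.ι ⁻¹ᵁ W) := hW.preimage_of_isOpenImmersion U.ι hr
  refine ⟨⟨U.ι ⁻¹ᵁ W, hW0⟩, huW, ?_⟩
  rw [_root_.H29Blow.ideal_comap (closureIdeal U D) U.ι ⟨W, hW⟩ ⟨U.ι ⁻¹ᵁ W, hW0⟩ le_rfl, closureIdeal,
    Scheme.Hom.ker_apply, ← Scheme.Hom.app_eq_appLE]
  haveI : IsIso (U.ι.app W) := U.ι.isIso_app W hr
  show Ideal.map (U.ι.app W).hom (RingHom.ker ((D.subschemeι.app (U.ι ⁻¹ᵁ W)).hom.comp (U.ι.app W).hom)) = _
  rw [← RingHom.comap_ker, Ideal.map_comap_of_surjective _ (ConcreteCategory.bijective_of_isIso (U.ι.app W)).2 _]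
  exact D.ker_subschemeι_app ⟨U.ι ⁻¹ᵁ W, hW0⟩

theorem isEffCartierIdeal_closureIdeal_of_mem [IsLocallyNoetherian X] (hD : BlowUp.IsEffCartierIdeal D)
    {x : X} (hx : x ∈ U) :
    ∃ W : X.affineOpens, x ∈ W.1 ∧ W.1 ≤ U ∧
      ∃ f : Γ(X, W.1), f ∈ nonZeroDivisors Γ(X, W.1) ∧ (closureIdeal U D).ideal W = Ideal.span {f} := by
  obtain ⟨W0, hxW0, -, f, hf, hfW⟩ := _root_.H29Blow.exists_gen hD (x := (⟨x, hx⟩ : U)) (W := ⊤) trivial
  let W : X.affineOpens := ⟨U.ι ''ᵁ W0.1, W0.2.image_of_isOpenImmersion U.ι⟩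
  refine ⟨W, ⟨⟨x, hx⟩, hxW0, rfl⟩, fun _ ⟨z, _, hz⟩ => hz ▸ z.2, (U.ι.appIso W0.1).inv f, ?_, ?_⟩
  · exact _root_.H29Blow.mem_nonZeroDivisors_map_of_flat
      (RingHom.Flat.of_bijective (ConcreteCategory.bijective_of_isIso (U.ι.appIso W0.1).inv)) hf
  · have h := congrArg (fun J : (U : Scheme.{u}).IdealSheafData => J.ideal W0) (closureIdeal_comap U D)
    simp only [Scheme.IdealSheafData.ideal_comap_of_isOpenImmersion] at h
    rw [hfW] at h
    have h2 := congrArg (Ideal.map (U.ι.appIso W0.1).inv.hom) h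
    rw [Ideal.map_comap_of_surjective _ (ConcreteCategory.bijective_of_isIso (U.ι.appIso W0.1).inv).2,
      Ideal.map_span, Set.image_singleton] at h2
    exact h2

/-- Divisibility data at a point of the open. -/
theorem exists_local_gen [IsLocallyNoetherian X] (hD : BlowUp.IsEffCartierIdeal D) (V : X.affineOpens)
    (y : V.1) (hy : y.1 ∈ U) :
    ∃ (g : Γ(X, V.1)) (k : Γ(X, V.1)), k ∉ (V.2.primeIdealOf y).asIdeal ∧
      (∀ t, t * g = 0 → t ∈ (V.2.primeIdealOf y).asIdeal) ∧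
      (∀ x ∈ (closureIdeal U D).ideal V, ∃ m : ℕ, g ∣ k ^ m * x) ∧
      ∃ m : ℕ, k ^ m * g ∈ (closureIdeal U D).ideal V := by
  obtain ⟨W, hyW, -, f, hf, hfW⟩ := isEffCartierIdeal_closureIdeal_of_mem U D hD hy
  obtain ⟨k, k', hkk, hyk⟩ := exists_basicOpen_le_affine_inter V.2 W.2 y.1 ⟨y.2, hyW⟩
  let I := closureIdeal U D
  have hkW : X.basicOpen k ≤ W.1 := hkk.le.trans (X.basicOpen_le k')
  let B : X.affineOpens := ⟨X.basicOpen k, V.2.basicOpen k⟩
  let f' : Γ(X, B.1) := X.presheaf.map (homOfLE hkW).op f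
  have hf' : f' ∈ nonZeroDivisors Γ(X, B.1) := _root_.H29Blow.res_mem_nonZeroDivisors (W := B) hkW hf
  have hfB : I.ideal B = Ideal.span {f'} := _root_.H29Blow.ideal_eq_span_res (W := B) hkW hfW
  letI : Algebra Γ(X, V.1) Γ(X, B.1) := (X.presheaf.map (homOfLE (X.basicOpen_le k)).op).hom.toAlgebra
  haveI : IsLocalization.Away k Γ(X, B.1) := V.2.isLocalization_basicOpen k
  have hmap : (I.ideal V).map (algebraMap Γ(X, V.1) Γ(X, B.1)) = Ideal.span {f'} :=
    (I.map_ideal (U := B) (V := V) (X.basicOpen_le k)).trans hfB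
  obtain ⟨⟨g, ⟨_, n, rfl⟩⟩, hg⟩ := IsLocalization.surj (Submonoid.powers k) f'
  simp only at hg
  have hku : IsUnit (algebraMap Γ(X, V.1) Γ(X, B.1) (k ^ n)) :=
    IsLocalization.map_units Γ(X, B.1) (⟨k ^ n, n, rfl⟩ : Submonoid.powers k)
  have hkp : k ∉ (V.2.primeIdealOf y).asIdeal := fun h =>
    (_root_.H29Blow.mem_primeIdealOf_iff V.2 y k).1 h ((X.mem_basicOpen k y.1 y.2).1 hyk)
  have hspan : Ideal.span {algebraMap Γ(X, V.1) Γ(X, B.1) g} = Ideal.span {f'} := by
    rw [← hg, Ideal.span_singleton_mul_right_unit hku]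
  refine ⟨g, k, hkp, fun t ht => ?_, fun x hx => ?_, ?_⟩
  · have h0 : algebraMap Γ(X, V.1) Γ(X, B.1) t = 0 := by
      have h1 := congrArg (algebraMap Γ(X, V.1) Γ(X, B.1)) ht
      rw [map_mul, map_zero, ← hg, ← mul_assoc] at h1
      exact (mem_nonZeroDivisors_iff_right.1 hf') _ (hku.mul_left_eq_zero.1 h1)
    obtain ⟨⟨_, m, rfl⟩, hm⟩ := (IsLocalization.map_eq_zero_iff (Submonoid.powers k) Γ(X, B.1) t).1 h0
    exact ((V.2.primeIdealOf y).isPrime.mem_or_mem
      (show k ^ m * t ∈ _ from hm ▸ zero_mem _)).resolve_left fun h => hkp ((V.2.primeIdealOf y).isPrime.mem_of_pow_mem m h)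
  · have h1 : algebraMap Γ(X, V.1) Γ(X, B.1) x ∈ (Ideal.span {g}).map (algebraMap Γ(X, V.1) Γ(X, B.1)) := by
      rw [Ideal.map_span, Set.image_singleton, hspan, ← hmap]
      exact Ideal.mem_map_of_mem _ hx
    obtain ⟨_, ⟨m, rfl⟩, hm⟩ := (IsLocalization.algebraMap_mem_map_algebraMap_iff (Submonoid.powers k) Γ(X, B.1) _ x).1 h1
    exact ⟨m, Ideal.mem_span_singleton.1 hm⟩
  · have h1 : algebraMap Γ(X, V.1) Γ(X, B.1) g ∈ (I.ideal V).map (algebraMap Γ(X, V.1) Γ(X, B.1)) := by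
      rw [hmap, ← hspan]
      exact Ideal.mem_span_singleton_self _
    obtain ⟨_, ⟨m, rfl⟩, hm⟩ := (IsLocalization.algebraMap_mem_map_algebraMap_iff (Submonoid.powers k) Γ(X, B.1) _ g).1 h1
    exact ⟨m, hm⟩

/-- An element killed by the prime of a point outside `U` lies in the closure ideal. -/
theorem mem_closureIdeal_of_mul_mem [IsLocallyNoetherian X] (V : X.affineOpens) (y : V.1) (hy : y.1 ∉ U)
    (c : Γ(X, V.1)) (h : ∀ a ∈ (V.2.primeIdealOf y).asIdeal, a * c ∈ (closureIdeal U D).ideal V) :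
    c ∈ (closureIdeal U D).ideal V := by
  let e := D.subschemeι ≫ U.ι
  haveI : QuasiCompact e := inferInstanceAs (QuasiCompact (D.subschemeι ≫ U.ι))
  show c ∈ e.ker.ideal V
  rw [Scheme.Hom.ker_apply, RingHom.mem_ker]
  have hloc : ∀ z : (e ⁻¹ᵁ V.1 : D.subscheme.Opens), ∃ a ∈ (V.2.primeIdealOf y).asIdeal,
      z.1 ∈ D.subscheme.basicOpen (e.app V.1 a) := by
    intro z
    by_contra hcon
    push Not at hcon
    have hle : (V.2.primeIdealOf y).asIdeal ≤ (V.2.primeIdealOf ⟨e z.1, z.2⟩).asIdeal := fun a ha => by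
      rw [_root_.H29Blow.mem_primeIdealOf_iff]
      intro hu
      refine hcon a ha ?_
      rw [← Scheme.preimage_basicOpen]
      exact (X.mem_basicOpen a _ z.2).2 hu
    exact hy (((_root_.H29Blow.primeIdealOf_le_iff V.2 y ⟨e z.1, z.2⟩).1 hle).mem_open U.2
      (D.subschemeι z.1).2)
  choose a ha haz using hloc
  refine TopCat.Sheaf.eq_of_locally_eq' D.subscheme.sheaf
    (fun z : (e ⁻¹ᵁ V.1 : D.subscheme.Opens) => D.subscheme.basicOpen (e.app V.1 (a z))) (e ⁻¹ᵁ V.1)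
    (fun z => homOfLE (D.subscheme.basicOpen_le _)) (fun z hz => Opens.mem_iSup.2 ⟨⟨z, hz⟩, haz ⟨z, hz⟩⟩)
    _ _ fun z => ?_
  have h0 : e.app V.1 (a z) * e.app V.1 c = 0 := by
    rw [← map_mul]
    have := h _ (ha z)
    rwa [closureIdeal, Scheme.Hom.ker_apply, RingHom.mem_ker] at this
  show D.subscheme.presheaf.map (homOfLE (D.subscheme.basicOpen_le _)).op (e.app V.1 c) =
    D.subscheme.presheaf.map (homOfLE (D.subscheme.basicOpen_le _)).op 0
  have h1 := congrArg (D.subscheme.presheaf.map (homOfLE (D.subscheme.basicOpen_le (e.app V.1 (a z)))).op) h0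
  rw [map_mul, map_zero] at h1
  rw [map_zero]
  exact (D.subscheme.toRingedSpace.isUnit_res_basicOpen (e.app V.1 (a z))).mul_right_eq_zero.1 h1

theorem isEffCartierIdeal_closureIdeal [IsLocallyNoetherian X] (hD : BlowUp.IsEffCartierIdeal D)
    (hufd : ∀ x : X, x ∉ U → IsDomain (X.presheaf.stalk x) ∧ UniqueFactorizationMonoid (X.presheaf.stalk x)) :
    BlowUp.IsEffCartierIdeal (closureIdeal U D) := by
  intro x
  by_cases hxU : x ∈ U
  · obtain ⟨W, hxW, -, f, hf, hfW⟩ := isEffCartierIdeal_closureIdeal_of_mem U D hD hxU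
    exact ⟨W, hxW, f, hf, hfW⟩
  obtain ⟨hdom, hu⟩ := hufd x hxU
  obtain ⟨V, hV, hxV, -⟩ := exists_isAffineOpen_mem_and_subset (U := (⊤ : X.Opens)) (x := x) trivial
  let B := Γ(X, V)
  let A := X.presheaf.stalk x
  haveI : IsNoetherianRing B := IsLocallyNoetherian.component_noetherian ⟨V, hV⟩
  letI := TopCat.Presheaf.algebra_section_stalk X.presheaf (⟨x, hxV⟩ : V)
  haveI := hV.isLocalization_stalk ⟨x, hxV⟩
  let p := (hV.primeIdealOf ⟨x, hxV⟩).asIdeal
  let I₀ := (closureIdeal U D).ideal ⟨V, hV⟩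
  have key : ∀ (P : Ideal A) (c : A), P.IsPrime → (∀ a, a * c ∈ I₀.map (algebraMap B A) ↔ a ∈ P) →
      ∃ g : A, g ≠ 0 ∧ (∀ z ∈ I₀.map (algebraMap B A), ∃ s ∉ P, g ∣ s * z) ∧
        ∃ s ∉ P, s * g ∈ I₀.map (algebraMap B A) := by
    intro P c hP hPc
    obtain ⟨⟨c₀, s₀⟩, hc₀⟩ := IsLocalization.surj p.primeCompl c
    simp only at hc₀
    have hs₀ : IsUnit (algebraMap B A (s₀ : B)) := IsLocalization.map_units A s₀
    let q := P.comap (algebraMap B A)
    have hqp : q ≤ p := by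
      refine (Ideal.comap_mono (IsLocalRing.le_maximalIdeal hP.ne_top)).trans ?_
      exact (IsLocalization.AtPrime.under_maximalIdeal A p).le
    obtain ⟨y, hyq⟩ := _root_.H29Blow.exists_primeIdealOf_eq hV ⟨q, hP.comap _⟩
    have hyq' : (hV.primeIdealOf y).asIdeal = q := congrArg PrimeSpectrum.asIdeal hyq
    by_cases hyU : y.1 ∈ U
    · obtain ⟨g, k, hk, hg0, hdiv, m, hm⟩ := exists_local_gen U D hD ⟨V, hV⟩ y hyU
      have hkP : algebraMap B A k ∉ P := fun h => hk (hyq'.symm ▸ h)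
      have hpow : ∀ n : ℕ, algebraMap B A k ^ n ∉ P := fun n h => hkP (hP.mem_of_pow_mem n h)
      refine ⟨algebraMap B A g, fun h0 => ?_, fun z hz => ?_, algebraMap B A k ^ m, hpow m, ?_⟩
      · obtain ⟨⟨t, ht⟩, htg⟩ := (IsLocalization.map_eq_zero_iff p.primeCompl A g).1 h0
        exact ht (hqp (hyq' ▸ hg0 t htg))
      · obtain ⟨⟨⟨z₀, hz₀⟩, t⟩, hzt⟩ := (IsLocalization.mem_map_algebraMap_iff p.primeCompl A).1 hz
        obtain ⟨n, hn⟩ := hdiv z₀ hz₀
        refine ⟨algebraMap B A k ^ n, hpow n, ?_⟩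
        have hu := IsLocalization.map_units A t
        refine (hu.dvd_mul_right).1 ?_
        rw [mul_assoc, hzt, ← map_pow, ← map_mul]
        exact map_dvd _ hn
      · rw [← map_pow, ← map_mul]
        exact Ideal.mem_map_of_mem _ hm
    · exfalso
      classical
      have hex : ∀ a ∈ q, ∃ s ∉ p, s * (a * c₀) ∈ I₀ := fun a ha => by
        refine (IsLocalization.algebraMap_mem_map_algebraMap_iff p.primeCompl A I₀ _).1 ?_
        rw [map_mul, ← hc₀, ← mul_assoc]
        exact Ideal.mul_mem_right _ _ ((hPc _).2 ha)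
      obtain ⟨T, hT⟩ := IsNoetherian.noetherian q
      choose s hs hsI using fun a : {a // a ∈ T} => hex a.1 (hT ▸ Ideal.subset_span a.2)
      let S := ∏ a : {a // a ∈ T}, s a
      have hS : S ∉ p := fun hmem => by
        obtain ⟨a, -, ha⟩ := (hV.primeIdealOf ⟨x, hxV⟩).isPrime.prod_mem_iff.1 hmem
        exact hs a ha
      have hmem : S * c₀ ∈ I₀ := by
        refine mem_closureIdeal_of_mul_mem U D ⟨V, hV⟩ y hyU _ fun a ha => ?_
        rw [show (hV.primeIdealOf y).asIdeal = q from hyq', ← hT] at ha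
        induction ha using Submodule.span_induction with
        | mem a ha =>
          obtain ⟨d, hd⟩ : s ⟨a, ha⟩ ∣ S := Finset.dvd_prod_of_mem _ (Finset.mem_univ _)
          rw [hd, show a * (s ⟨a, ha⟩ * d * c₀) = d * (s ⟨a, ha⟩ * (a * c₀)) by ring]
          exact Ideal.mul_mem_left _ _ (hsI ⟨a, ha⟩)
        | zero => rw [zero_mul]; exact zero_mem _
        | add a b _ _ h1 h2 => rw [add_mul]; exact add_mem h1 h2
        | smul r a _ h1 => rw [smul_eq_mul, mul_assoc]; exact Ideal.mul_mem_left _ _ h1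
      have h1 := Ideal.mem_map_of_mem (algebraMap B A) hmem
      rw [map_mul, ← hc₀] at h1
      have hu1 : IsUnit (algebraMap B A S * algebraMap B A (s₀ : B)) :=
        (IsLocalization.map_units A (⟨S, hS⟩ : p.primeCompl)).mul hs₀
      have h2 : c ∈ I₀.map (algebraMap B A) := by
        refine (Ideal.unit_mul_mem_iff_mem _ hu1).1 ?_
        rwa [show algebraMap B A S * algebraMap B A (s₀ : B) * c =
          algebraMap B A S * (c * algebraMap B A (s₀ : B)) by ring]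
      exact hP.ne_top ((Ideal.eq_top_iff_one P).2 ((hPc 1).1 (by rwa [one_mul])))
  haveI : IsNoetherianRing A := inferInstance
  obtain ⟨g, hg0, hgI⟩ := isPrincipal_of_localPrincipal (I₀.map (algebraMap B A)) key
  obtain ⟨t, ht, b, hb, hT⟩ := _root_.H29Blow.exists_basicOpen_principal (A := A) p I₀
    (mem_nonZeroDivisors_of_ne_zero hg0) hgI
  let W : X.affineOpens := ⟨X.basicOpen t, hV.basicOpen t⟩
  letI : Algebra B Γ(X, W.1) := (X.presheaf.map (homOfLE (X.basicOpen_le t)).op).hom.toAlgebra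
  haveI : IsLocalization.Away t Γ(X, W.1) := hV.isLocalization_basicOpen t
  obtain ⟨h1, h2⟩ := hT Γ(X, W.1)
  refine ⟨W, ?_, _, h2, ?_⟩
  · show x ∈ X.basicOpen t
    rw [X.mem_basicOpen _ x hxV]
    exact IsLocalization.map_units A (⟨t, ht⟩ : p.primeCompl)
  · rw [← (closureIdeal U D).map_ideal (U := W) (V := ⟨V, hV⟩) (X.basicOpen_le t)]
    exact h1

end Groth.Agent.H11Div
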