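import Mathlib

/-!
# Ideals of a noetherian UFD which are principal at their associated primes
-/

set_option autoImplicit false
set_option linter.style.haveILetI false
universe u

namespace Groth.Agent.H11Div

variable {R : Type u} [CommRing R]

/-- An ideal different from the unit ideal has a colon ideal which is prime. -/
theorem exists_prime_colon [IsNoetherianRing R] (J : Ideal R) (hJ : J ≠ ⊤) :
    ∃ (P : Ideal R) (c : R), P.IsPrime ∧ ∀ a, a * c ∈ J ↔ a ∈ P := by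
  haveI : Nontrivial (R ⧸ J) := Ideal.Quotient.nontrivial_iff.2 hJ
  obtain ⟨P, hP⟩ := associatedPrimes.nonempty R (R ⧸ J)
  have hP' : IsAssociatedPrime P (R ⧸ J) := hP
  obtain ⟨hPp, x, hx⟩ := Submodule.isAssociatedPrime_iff.1 hP'
  obtain ⟨c, rfl⟩ := Ideal.Quotient.mk_surjective x
  refine ⟨P, c, hPp, fun a => ?_⟩
  rw [hx, Submodule.mem_colon_singleton, Submodule.mem_bot, ← Ideal.Quotient.eq_zero_iff_mem, map_mul]
  rfl

theorem isPrincipal_of_localPrincipal [IsNoetherianRing R] [IsDomain R] [UniqueFactorizationMonoid R]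
    (I : Ideal R)
    (h : ∀ (P : Ideal R) (c : R), P.IsPrime → (∀ a, a * c ∈ I ↔ a ∈ P) →
      ∃ g : R, g ≠ 0 ∧ (∀ x ∈ I, ∃ s ∉ P, g ∣ s * x) ∧ ∃ s ∉ P, s * g ∈ I) :
    ∃ g : R, g ≠ 0 ∧ I = Ideal.span {g} := by
  classical
  have hI : I ≠ ⊥ := by
    intro h0
    obtain ⟨g, hg, -, s, hs, hsg⟩ := h ⊥ 1 Ideal.isPrime_bot fun a => by rw [mul_one, h0]
    rw [h0, Ideal.mem_bot, mul_eq_zero] at hsg
    exact hsg.elim (fun e => hs (by rw [e]; exact zero_mem _)) hg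
  -- a maximal common divisor of `I`
  obtain ⟨x₀, hx₀, hx₀0⟩ := Submodule.exists_mem_ne_zero_of_ne_bot hI
  obtain ⟨K, ⟨g, rfl, hgI⟩, hmin⟩ : ∃ K, K ∈ {K : Associates R | ∃ g, K = Associates.mk g ∧ ∀ x ∈ I, g ∣ x} ∧
      ∀ K' ∈ {K : Associates R | ∃ g, K = Associates.mk g ∧ ∀ x ∈ I, g ∣ x}, ¬ K < K' := by
    have hfin : {K : Associates R | ∃ g, K = Associates.mk g ∧ ∀ x ∈ I, g ∣ x}.Finite := by
      refine Set.Finite.subset (UniqueFactorizationMonoid.fintypeSubtypeDvd (M := Associates R)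
        (Associates.mk x₀) (Associates.mk_ne_zero.2 hx₀0) |> fun i => @Set.toFinite _ {K | K ∣ Associates.mk x₀} (@Finite.of_fintype _ i)) ?_
      rintro _ ⟨g, rfl, hg⟩
      exact Associates.mk_dvd_mk.2 (hg x₀ hx₀)
    obtain ⟨K, hK⟩ := hfin.exists_maximal ⟨1, 1, Associates.mk_one.symm, fun x _ => one_dvd x⟩
    exact ⟨K, hK.1, fun K' hK' hlt => hlt.not_ge (hK.2 hK' hlt.le)⟩
  have hg0 : g ≠ 0 := fun e => hx₀0 (zero_dvd_iff.1 (e ▸ hgI x₀ hx₀))
  let J : Ideal R := Submodule.colon I {g}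
  have hIJ : ∀ x, x ∈ J ↔ g * x ∈ I := fun x => by
    rw [Submodule.mem_colon_singleton, smul_eq_mul, mul_comm]
  refine ⟨g, hg0, le_antisymm (fun x hx => Ideal.mem_span_singleton.2 (hgI x hx)) ?_⟩
  rw [Ideal.span_singleton_le_iff_mem]
  by_contra hgn
  have hJ : J ≠ ⊤ := fun e => hgn (by
    have : (1 : R) ∈ J := e ▸ Submodule.mem_top
    simpa [hIJ] using this)
  -- no prime element divides all of `J`
  have hnd : ∀ π : R, Prime π → ∃ y ∈ J, ¬ π ∣ y := fun π hπ => by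
    by_contra hcon
    push Not at hcon
    refine hmin (Associates.mk (g * π)) ⟨g * π, rfl, fun x hx => ?_⟩ ?_
    · obtain ⟨y, rfl⟩ := hgI x hx
      exact mul_dvd_mul_left g (hcon y ((hIJ y).2 hx))
    · refine lt_of_le_of_ne (Associates.mk_le_mk_iff_dvd.2 (dvd_mul_right g π)) fun e => hπ.not_isUnit ?_
      obtain ⟨u, hu⟩ := Associates.mk_eq_mk_iff_associated.1 e
      rw [mul_right_inj' hg0] at hu
      exact hu ▸ u.isUnit
  obtain ⟨P, c, hP, hc⟩ := exists_prime_colon J hJ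
  obtain ⟨d, hd0, hdI, s₁, hs₁, hs₁d⟩ := h P (g * c) hP fun a => by
    rw [← hc a, hIJ, mul_left_comm]
  -- `g ∣ d` up to an element outside `P`
  obtain ⟨e₀, he₀⟩ := hgI _ hs₁d
  have he₀J : e₀ ∈ J := (hIJ e₀).2 (he₀ ▸ hs₁d)
  have he₀0 : e₀ ≠ 0 := fun e => by
    rw [e, mul_zero, mul_eq_zero] at he₀
    exact he₀.elim (fun e => hs₁ (e ▸ zero_mem P)) hd0
  have hJd : ∀ y ∈ J, ∃ t ∉ P, e₀ ∣ t * y := fun y hy => by
    obtain ⟨s, hs, hsy⟩ := hdI (g * y) ((hIJ y).1 hy)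
    refine ⟨s₁ * s, fun h' => (hP.mem_or_mem h').elim hs₁ hs, ?_⟩
    obtain ⟨q, hq⟩ := hsy
    refine ⟨q, mul_left_cancel₀ hg0 ?_⟩
    calc g * (s₁ * s * y) = s₁ * (s * (g * y)) := by ring
      _ = s₁ * (d * q) := by rw [hq]
      _ = (s₁ * d) * q := by ring
      _ = g * (e₀ * q) := by rw [he₀]; ring
  have hcJ : c ∉ J := fun hc' => hP.ne_top ((Ideal.eq_top_iff_one P).2 ((hc 1).1 (by rwa [one_mul])))
  have hJP : J ≤ P := fun y hy => (hc y).1 (Ideal.mul_mem_right _ _ hy)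
  -- cancel the common divisor of `c` and `e₀`
  obtain ⟨c', e', d₀, hcop, rfl, he'⟩ := UniqueFactorizationMonoid.exists_reduced_factors' c e₀ he₀0
  have he'0 : e' ≠ 0 := fun e => he₀0 (by rw [← he', e, mul_zero])
  by_cases hπ : ∃ π, Prime π ∧ π ∣ e' ∧ π ∈ P
  · obtain ⟨π, hπ, hπe, hπP⟩ := hπ
    obtain ⟨y, hy, hny⟩ := hnd π hπ
    -- every element of `P` is divisible by `π`
    obtain ⟨t, ht, htd⟩ := hJd _ ((hc y).2 (hJP hy))
    rw [← he', show t * (y * (d₀ * c')) = d₀ * (t * y * c') by ring] at htd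
    have hd₀0 : d₀ ≠ 0 := fun e => he₀0 (by rw [← he', e, zero_mul])
    have h1 : π ∣ t * y * c' := hπe.trans ((mul_dvd_mul_iff_left hd₀0).1 htd)
    rcases hπ.dvd_or_dvd h1 with h2 | h2
    · rcases hπ.dvd_or_dvd h2 with h3 | h3
      · exact ht (P.mem_of_dvd h3 hπP)
      · exact hny h3
    · exact hπ.not_isUnit (hcop h2 hπe)
  · push Not at hπ
    have he'P : e' ∉ P := by
      intro hmem
      obtain ⟨F, hF, hFe⟩ := UniqueFactorizationMonoid.exists_prime_factors e' he'0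
      obtain ⟨u, hu⟩ := hFe
      have : F.prod ∈ P := by
        by_contra hn
        rw [← hu] at hmem
        exact (hP.mem_or_mem hmem).elim hn fun hu' => hP.ne_top (Ideal.eq_top_of_isUnit_mem _ hu' u.isUnit)
      obtain ⟨π, hπF, hπP⟩ := hP.multiset_prod_mem_iff_exists_mem F |>.1 this
      exact hπ π (hF π hπF) ((Multiset.dvd_prod hπF).trans ⟨u, hu.symm⟩) hπP
    refine he'P ((hc e').1 ?_)
    rw [show e' * (d₀ * c') = c' * (d₀ * e') by ring, he']
    exact Ideal.mul_mem_left _ _ he₀J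

end Groth.Agent.H11Div
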